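import Groth.Agent.Ega43.UnivOpenAt
import Groth.Agent.Ega4fib.H174.Equidim
import Mathlib.AlgebraicGeometry.Morphisms.FiniteType
import Mathlib.AlgebraicGeometry.AlgClosed.Basic

/-!
# Points closed in their fibre
-/

set_option autoImplicit false
universe u
open CategoryTheory AlgebraicGeometry TopologicalSpace Topology Limits
open Groth.Agent Groth.Agent.Ega4fib.H174.Equidim Groth.Agent.Ega43.UnivOpenAt EGA43

namespace K126.ClosedFib

variable {X Y : Scheme.{u}}

/-- In every nonempty locally closed piece of a fibre there is a point closed in the fibre. -/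
theorem exists_closed_in_fibre_mem (f : X ⟶ Y) [LocallyOfFiniteType f] (x : X) (S : Set X)
    (hS : IsLocallyClosed S) (hx : x ∈ S) :
    ∃ x' ∈ S, f x' = f x ∧ ∀ x'' : X, f x'' = f x → x' ⤳ x'' → x'' = x' := by
  have h1 : IsLocallyClosed ((f.fiberι (f x)) ⁻¹' S) := hS.preimage (f.fiberι (f x)).continuous
  have h2 : ((f.fiberι (f x)) ⁻¹' S).Nonempty :=
    ⟨f.asFiber x, by rw [Set.mem_preimage, Scheme.Hom.fiberι_asFiber]; exact hx⟩
  obtain ⟨z, hzV, hz⟩ := nonempty_inter_closedPoints (X := f.fiber (f x)) h2 h1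
  rw [mem_closedPoints_iff] at hz
  refine ⟨f.fiberι (f x) z, hzV, fiberι_mem_preimage f _ z, fun x'' hx'' h => ?_⟩
  have : x'' ∈ Set.range (f.fiberι (f x)) := by
    rw [Scheme.Hom.range_fiberι]; exact hx''
  obtain ⟨z'', rfl⟩ := this
  have h1 : z ⤳ z'' := (f.fiberι (f x)).isEmbedding.specializes_iff.mp h
  have h2 : z'' ∈ ({z} : Set (f.fiber (f x))) := h1.mem_closed hz rfl
  rw [Set.mem_singleton_iff.mp h2]

theorem exists_closed_in_fibre (f : X ⟶ Y) [LocallyOfFiniteType f] (x : X) :
    ∃ x' : X, x ⤳ x' ∧ f x' = f x ∧ ∀ x'' : X, f x'' = f x → x' ⤳ x'' → x'' = x' := by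
  obtain ⟨x', h1, h2, h3⟩ := exists_closed_in_fibre_mem f x (closure {x}) isClosed_closure.isLocallyClosed
    (subset_closure rfl)
  exact ⟨x', specializes_iff_mem_closure.mpr h1, h2, h3⟩

/-- If every open neighbourhood of `x` in its fibre contains a point at which `f` is universally open,
then `f` is universally open at `x`. -/
theorem isUnivOpenAt_of_dense (f : X ⟶ Y) (x : X)
    (h : ∀ V : Set (f.fiber (f x)), IsOpen V → f.asFiber x ∈ V → ∃ w ∈ V, IsUnivOpenAt f (f.fiberι _ w)) :
    IsUnivOpenAt f x := by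
  intro T t p hp
  apply isOpenAt_of_forall_isOpen
  intro U hU hpU
  have hb := isPullback_fiberToSpecResidueField_of_isPullback (IsPullback.of_hasPullback f t)
    (pullback.snd f t p)
  set s := pullback.snd f t p with hs
  have hts : t s = f x := by
    rw [hs, ← Scheme.Hom.comp_apply, ← pullback.condition, Scheme.Hom.comp_apply]
    exact congrArg f hp
  let b : (pullback.snd f t).fiber s ⟶ f.fiber (t s) :=
    pullback.map _ _ _ _ (pullback.fst f t) (Spec.map (t.residueFieldMap s)) t
      (IsPullback.of_hasPullback f t).w.symm (by simp)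
  have hbι : b ≫ f.fiberι (t s) = (pullback.snd f t).fiberι s ≫ pullback.fst f t :=
    pullback.lift_fst _ _ _
  have hbo : UniversallyOpen b := MorphismProperty.of_isPullback (P := @UniversallyOpen) hb.flip
    (inferInstance : UniversallyOpen (Spec.map (t.residueFieldMap s)))
  have hVo : IsOpen (b '' (((pullback.snd f t).fiberι s) ⁻¹' U)) :=
    b.isOpenMap _ (hU.preimage ((pullback.snd f t).fiberι s).continuous)
  have hp' : ((pullback.snd f t).fiberι s) ((pullback.snd f t).asFiber p) = p :=
    (pullback.snd f t).fiberι_asFiber p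
  have hx0 : f.fiberι (t s) (b ((pullback.snd f t).asFiber p)) = x := by
    rw [← Scheme.Hom.comp_apply, hbι, Scheme.Hom.comp_apply, hp']
    exact hp
  obtain ⟨w₀, hwV, hw⟩ : ∃ w₀ ∈ b '' (((pullback.snd f t).fiberι s) ⁻¹' U),
      IsUnivOpenAt f (f.fiberι (t s) w₀) := by
    have key : ∀ (y : Y) (hy : y = f x) (V : Set (f.fiber y)) (v : f.fiber y), IsOpen V → v ∈ V →
        f.fiberι y v = x → ∃ w₀ ∈ V, IsUnivOpenAt f (f.fiberι y w₀) := by
      rintro y rfl V v hV hv hvx
      refine h V hV ?_
      have : f.asFiber x = v := by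
        apply (f.fiberι (f x)).isEmbedding.injective
        rw [hvx, Scheme.Hom.fiberι_asFiber]
      rwa [this]
    refine key (t s) hts _ _ hVo ⟨_, ?_, rfl⟩ hx0
    rw [Set.mem_preimage, hp']
    exact hpU
  obtain ⟨w, hwU, rfl⟩ := hwV
  have h3 := isOpenAt_of_isPullback hw (IsPullback.of_hasPullback f t)
    ((pullback.snd f t).fiberι s w) (by
      rw [← Scheme.Hom.comp_apply, ← hbι, Scheme.Hom.comp_apply])
  have h4 := h3 U (hU.mem_nhds hwU)
  have h5 : (pullback.snd f t) ((pullback.snd f t).fiberι s w) = s := fiberι_mem_preimage _ _ _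
  rw [h5] at h4
  exact h4

/-- Universal openness passes from a point to its specializations in the same fibre. -/
theorem isUnivOpenAt_of_specializes (f : X ⟶ Y) {z x : X} (hz : IsUnivOpenAt f z) (h : z ⤳ x)
    (hzx : f z = f x) : IsUnivOpenAt f x := by
  refine isUnivOpenAt_of_dense f x fun V hV hxV => ?_
  have : z ∈ Set.range (f.fiberι (f x)) := by
    rw [Scheme.Hom.range_fiberι]; exact hzx
  obtain ⟨z', rfl⟩ := this
  refine ⟨z', ?_, hz⟩
  have h1 : z' ⤳ f.asFiber x := by
    rw [← fiberι_specializes_iff, Scheme.Hom.fiberι_asFiber]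
    exact h
  exact h1.mem_open hV hxV

/-- Pointwise: a morphism locally of finite type which is universally open at all points closed in the
fibre at `y` is universally open at all points of this fibre. -/
theorem isUnivOpenAt_of_forall_closed_in_fibre (f : X ⟶ Y) [LocallyOfFiniteType f] (y : Y)
    (h : ∀ x : X, f x = y → (∀ x' : X, f x' = y → x ⤳ x' → x' = x) → IsUnivOpenAt f x) (x : X)
    (hx : f x = y) : IsUnivOpenAt f x := by
  subst hx
  refine isUnivOpenAt_of_dense f x fun V hV hxV => ?_
  obtain ⟨z, hzV, hz⟩ := nonempty_inter_closedPoints (X := f.fiber (f x)) ⟨_, hxV⟩ hV.isLocallyClosed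
  rw [mem_closedPoints_iff] at hz
  refine ⟨z, hzV, h _ (fiberι_mem_preimage f _ _) fun x'' hfx'' hx'' => ?_⟩
  have : x'' ∈ Set.range (f.fiberι (f x)) := by
    rw [Scheme.Hom.range_fiberι]; exact hfx''
  obtain ⟨z'', rfl⟩ := this
  have h1 : z ⤳ z'' := (f.fiberι (f x)).isEmbedding.specializes_iff.mp hx''
  have h2 : z'' ∈ ({z} : Set (f.fiber (f x))) := h1.mem_closed hz rfl
  rw [Set.mem_singleton_iff.mp h2]

end K126.ClosedFib
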