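import Groth.Agent.EGA43.K126.QuasiSec
import Groth.Agent.EGA43.K126.ClosedFib

/-!
# Quasi-sections through a point closed in its fibre: consequences
-/

set_option autoImplicit false
universe u
open CategoryTheory AlgebraicGeometry TopologicalSpace Topology IsLocalRing
open Groth.Agent.CycB.RelDim Groth.Agent.Flat2D.RelDimClosure

namespace K126.QuasiSec

open Groth.Agent Groth.Agent.Ega4fib.H174.Equidim Groth.Agent.Ega4fib.H174.EquidimCrit

variable {X Y : Scheme.{u}}

theorem apply_generic_of_dense [IrreducibleSpace Y] (f : X ⟶ Y) (ζ : X)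
    (hd : Dense (f.base '' closure {ζ})) : f ζ = genericPoint Y := by
  have h1 : f.base '' closure {ζ} ⊆ closure {f ζ} := by
    have := image_closure_subset_closure_image f.continuous (s := {ζ})
    rwa [Set.image_singleton] at this
  have h2 : closure {f ζ} = Set.univ := by
    have := hd.mono h1
    rw [dense_iff_closure_eq, closure_closure] at this
    exact this
  have h3 : f ζ ⤳ genericPoint Y := by
    rw [specializes_iff_mem_closure, h2]
    trivial
  exact h3.antisymm (genericPoint_specializes _) |>.eq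

theorem dense_of_apply_generic [IrreducibleSpace Y] (f : X ⟶ Y) (ζ : X) (S : Set X) (hS : ζ ∈ S)
    (h : f ζ = genericPoint Y) : Dense (f.base '' S) := by
  have h1 : Dense ({f ζ} : Set Y) := by
    rw [h]
    intro y
    exact specializes_iff_mem_closure.mp (genericPoint_specializes y)
  exact h1.mono (by rintro _ rfl; exact ⟨ζ, hS, rfl⟩)

theorem ringKrullDim_stalk_generic [IrreducibleSpace Y] :
    ringKrullDim (Y.presheaf.stalk (genericPoint Y)) = 0 := by
  rw [ringKrullDim_stalk_eq_coheight]
  have : Order.coheight (genericPoint Y) = 0 := by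
    rw [Order.coheight_eq_zero]
    intro y _
    exact genericPoint_specializes y
  rw [this]
  rfl

theorem exists_dim_fibre_stalk (f : X ⟶ Y) [LocallyOfFiniteType f] (x : X) :
    ∃ c : ℕ, ringKrullDim ((f.fiber (f x)).presheaf.stalk (f.asFiber x)) = c := by
  have h1 : LocallyOfFiniteType (f.fiberToSpecResidueField (f x)) :=
    inferInstanceAs (LocallyOfFiniteType (Limits.pullback.snd f (Y.fromSpecResidueField (f x))))
  have : IsLocallyNoetherian (f.fiber (f x)) :=
    LocallyOfFiniteType.isLocallyNoetherian (f.fiberToSpecResidueField (f x))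
  exact QuasiSecLocal.exists_nat_ringKrullDim _

/-- Quasi-sections through a point with algebraic residue field when the dimension formula holds. -/
theorem exists_quasiSection_of_dim [IrreducibleSpace Y] [IsLocallyNoetherian Y] (f : X ⟶ Y)
    [LocallyOfFiniteType f] (x : X) (c : ℕ)
    (hc : ringKrullDim ((f.fiber (f x)).presheaf.stalk (f.asFiber x)) = c)
    (hdim : ringKrullDim (Y.presheaf.stalk (f x)) + c ≤ ringKrullDim (X.presheaf.stalk x))
    (hcl : rtd f x = 0) :
    ∃ (T : Scheme.{u}) (i : T ⟶ X), IsImmersion i ∧ IrreducibleSpace ↥T ∧ IsReduced T ∧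
      x ∈ Set.range i.base ∧
      LocallyOfFiniteType (i ≫ f) ∧ LocallyQuasiFinite (i ≫ f) ∧ QuasiCompact (i ≫ f) ∧
      IsDominant (i ≫ f) := by
  have hX : IsLocallyNoetherian X := LocallyOfFiniteType.isLocallyNoetherian f
  obtain ⟨x', h, hgen, hiso⟩ := exists_gen_generic f x c hc hdim
  obtain ⟨T, i, h1, h2, h3, h4, -, h5, h6, h7, h8⟩ := exists_quasiSection_of_gen f h hgen
    fun w h1 h2 h3 => by rw [hiso w h1 h2 h3, hcl]
  exact ⟨T, i, h1, h2, h3, h4, h5, h6, h7, h8⟩

theorem exists_quasiSection_of_dim_le_one [IrreducibleSpace Y]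
    [IsLocallyNoetherian Y] (f : X ⟶ Y) [LocallyOfFiniteType f] (x : X)
    (hY : ringKrullDim (Y.presheaf.stalk (f x)) ≤ 1)
    (hmax : ∀ z : X, z ⤳ x → f z = f x → f x ≠ genericPoint Y → ∃ z' : X, z' ⤳ z ∧ z' ≠ z)
    (hcl : rtd f x = 0) :
    ∃ (T : Scheme.{u}) (i : T ⟶ X), IsImmersion i ∧ IrreducibleSpace ↥T ∧ IsReduced T ∧
      x ∈ Set.range i.base ∧
      LocallyOfFiniteType (i ≫ f) ∧ LocallyQuasiFinite (i ≫ f) ∧ QuasiCompact (i ≫ f) ∧
      IsDominant (i ≫ f) := by
  obtain ⟨c, hc⟩ := exists_dim_fibre_stalk f x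
  refine exists_quasiSection_of_dim f x c hc ?_ hcl
  by_cases hgen : f x = genericPoint Y
  · rw [hgen, ringKrullDim_stalk_generic, zero_add, ← hc]
    exact K126.EquidimSub.ringKrullDim_fibre_le f x
  · have h1 := K126.EquidimSub.ringKrullDim_fibre_add_one_le f x c hc fun z h1 h2 => hmax z h1 h2 hgen
    refine le_trans (add_le_add_left hY _) ?_
    rw [add_comm]
    exact_mod_cast h1

/-- The reduced closed subscheme `closure {ζ}` through a point `x`, as a family over the same base. -/
theorem exists_closure_family (ζ x : X) (h : ζ ⤳ x) :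
    ∃ (W : Scheme.{u}) (j : W ⟶ X) (w₀ ξ : W), IsClosedImmersion j ∧ IsReduced W ∧
      IrreducibleSpace W ∧ Set.range j = closure {ζ} ∧ j w₀ = x ∧ j ξ = ζ ∧ (∀ w : W, ξ ⤳ w) := by
  let Z : Closeds X := ⟨closure {ζ}, isClosed_closure⟩
  let W := (Scheme.IdealSheafData.vanishingIdeal Z).subscheme
  let j : W ⟶ X := (Scheme.IdealSheafData.vanishingIdeal Z).subschemeι
  have hr : Set.range j = closure {ζ} := by
    rw [Scheme.IdealSheafData.range_subschemeι]
    exact Scheme.IdealSheafData.coe_support_vanishingIdeal _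
  have hred : IsReduced W := Groth.Agent.Ega1.ReducedSub.isReduced_subscheme_vanishingIdeal Z
  obtain ⟨w₀, hw₀⟩ : x ∈ Set.range j := by rw [hr]; exact specializes_iff_mem_closure.mp h
  obtain ⟨ξ, hξ⟩ : ζ ∈ Set.range j := by rw [hr]; exact subset_closure rfl
  have hξall : ∀ w : W, ξ ⤳ w := by
    intro w
    refine j.isClosedEmbedding.isInducing.specializes_iff.mp ?_
    have h9 : j w ∈ Set.range j := ⟨w, rfl⟩
    rw [hr] at h9
    rw [hξ]
    exact specializes_iff_mem_closure.mpr h9
  exact ⟨W, j, w₀, ξ, inferInstance, hred, irreducibleSpace_of_specializes ξ hξall, hr, hw₀, hξ, hξall⟩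

end K126.QuasiSec
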