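import Groth.Agent.Ega4fib.H157.FibreEq

/-!
# Dimension counts at a point of equidimensionality over an irreducible base
-/

set_option autoImplicit false
universe u
open CategoryTheory AlgebraicGeometry TopologicalSpace Topology
open Groth.Agent.CycB.RelDim Groth.Agent.Flat2D.RelDimClosure

namespace K126.EquidimSub

open Groth.Agent Groth.Agent.Ega4fib.H174.Equidim Groth.Agent.Ega4fib.H174.EquidimCrit

variable {X Y : Scheme.{u}}

/-- The fibre inclusion is strictly monotone for the specialization order. -/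
theorem strictMono_fiberι (f : X ⟶ Y) (y : Y) : StrictMono (f.fiberι y) := by
  intro a b hab
  have h1 := (fiberι_specializes_iff f y b a)
  have h2 := (fiberι_specializes_iff f y a b)
  exact ⟨h1.2 hab.1, fun h => hab.2 (h2.1 h)⟩

theorem ringKrullDim_fibre_le (f : X ⟶ Y) (x : X) :
    ringKrullDim ((f.fiber (f x)).presheaf.stalk (f.asFiber x)) ≤ ringKrullDim (X.presheaf.stalk x) := by
  rw [ringKrullDim_stalk_eq_coheight, ringKrullDim_stalk_eq_coheight]
  have h := Order.coheight_le_coheight_apply_of_strictMono _ (strictMono_fiberι f (f x)) (f.asFiber x)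
  rw [Scheme.Hom.fiberι_asFiber] at h
  exact_mod_cast h

/-- If no generization of `x` over `f x` is maximal in `X`, the local ring of the fibre has smaller
dimension. -/
theorem ringKrullDim_fibre_add_one_le (f : X ⟶ Y) (x : X) (c : ℕ)
    (hc : ringKrullDim ((f.fiber (f x)).presheaf.stalk (f.asFiber x)) = c)
    (h : ∀ z : X, z ⤳ x → f z = f x → ∃ z' : X, z' ⤳ z ∧ z' ≠ z) :
    ((c + 1 : ℕ) : WithBot ℕ∞) ≤ ringKrullDim (X.presheaf.stalk x) := by
  rw [ringKrullDim_stalk_eq_coheight] at hc ⊢
  have hc' : Order.coheight (f.asFiber x) = c := by exact_mod_cast hc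
  obtain ⟨p, hp, hlen⟩ := Order.exists_series_of_coheight_eq_coe _ hc'
  let q : LTSeries X := p.map _ (strictMono_fiberι f (f x))
  have hq : q.head = x := by
    rw [LTSeries.head_map, hp, Scheme.Hom.fiberι_asFiber]
  have hql : q.last ⤳ x := by
    have := q.head_le_last
    rw [hq] at this
    exact this
  obtain ⟨z', hz', hne⟩ := h q.last hql (by
    rw [LTSeries.last_map]
    exact fiberι_mem_preimage f _ _)
  have hlt : q.last < z' := ⟨hz', fun h' => hne (hz'.antisymm h').eq⟩
  let r := q.snoc z' hlt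
  have hr : r.head = x := by rw [← hq]; exact RelSeries.head_snoc _ _ _
  have := Order.length_le_coheight_head (p := r)
  rw [hr] at this
  have h2 : r.length = c + 1 := by
    change q.length + 1 = c + 1
    rw [← hlen]
    rfl
  rw [h2] at this
  exact_mod_cast this

/-- The numbers attached to a generization `x'` of a point `x` of equidimensionality of `f`, over an
irreducible base. -/
theorem numbers [IrreducibleSpace Y] [IsLocallyNoetherian Y] (f : X ⟶ Y) [LocallyOfFiniteType f]
    (x x' : X) (hf : EGA43.IsEquidimAt f x) (h : x' ⤳ x) :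
    ∃ e c d t : ℕ, FlatMor.fibreDimAt f x = e ∧ rtd f x' = t ∧
      ringKrullDim (X.presheaf.stalk x') = d ∧
      ringKrullDim ((f.fiber (f x')).presheaf.stalk (f.asFiber x')) = c ∧ c + t = e ∧ c ≤ d ∧
      (f x' ≠ genericPoint Y → c + 1 ≤ d) ∧
      (∀ ζ : X, (∀ z : X, z ⤳ ζ → z = ζ) → ζ ⤳ x → f ζ = genericPoint Y ∧ rtd f ζ = e) := by
  have hX : IsLocallyNoetherian X := LocallyOfFiniteType.isLocallyNoetherian f
  have hf0 := hf
  rw [isEquidimAt_iff_points] at hf
  obtain ⟨e, U, hxU, h1, h2⟩ := hf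
  have hmaxY : ∀ z ∈ U, (∀ z' : X, z' ⤳ z → z' = z) → f z = genericPoint Y := fun z hz hmax =>
    ((h1 z hz hmax).1 _ (genericPoint_specializes _)).symm
  have hx'U : x' ∈ U := h.mem_open U.2 hxU
  have hf' : EGA43.IsEquidimAt f x' := by
    rw [isEquidimAt_iff_points]
    refine ⟨e, U, hx'U, fun z hz hmax => ⟨(h1 z hz hmax).1, ?_⟩, h2⟩
    rw [hmaxY z hz hmax]
    exact genericPoint_specializes _
  have hζ : ∀ ζ : X, (∀ z : X, z ⤳ ζ → z = ζ) → ζ ∈ U → f ζ = genericPoint Y ∧ rtd f ζ = e := by
    intro ζ hmax hζU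
    exact ⟨hmaxY ζ hζU hmax, h2 ζ hζU fun z hz _ => hmax z hz⟩
  obtain ⟨t, ht⟩ := Cardinal.lt_aleph0.1 (rtd_lt_aleph0 f x')
  have : LocallyOfFiniteType (f.fiberToSpecResidueField (f x')) :=
    inferInstanceAs (LocallyOfFiniteType (Limits.pullback.snd f (Y.fromSpecResidueField (f x'))))
  have hFN : IsLocallyNoetherian (f.fiber (f x')) :=
    LocallyOfFiniteType.isLocallyNoetherian (f.fiberToSpecResidueField (f x'))
  obtain ⟨c, hc⟩ := Ega4fib.H118.FibreStalkDim.exists_nat_ringKrullDim
    ((f.fiber (f x')).presheaf.stalk (f.asFiber x'))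
  obtain ⟨d, hd⟩ := Ega4fib.H118.FibreStalkDim.exists_nat_ringKrullDim (X.presheaf.stalk x')
  have hce : c + t = e := Ega4fib.H157.FibreEq.dim_fibre_add_rtd_eq f x' hf' e t c
    (fun ζ hζx' hmax => (hζ ζ hmax (hζx'.mem_open U.2 hx'U)).2) ht hc
  refine ⟨e, c, d, t, ?_, ht, hd, hc, hce, ?_, ?_, fun ζ hmax hζx => hζ ζ hmax (hζx.mem_open U.2 hxU)⟩
  · apply le_antisymm
    · refine VarietyA.LocDim.fibreDimAt_le f x e fun z hz hfz => ?_
      obtain ⟨w, hw1, hw2, hw3⟩ := exists_maximal_fiber f z
      rw [← h2 w ((hw1.trans hz).mem_open U.2 hxU) hw3]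
      exact VarietyA.LocDim.rtd_le_of_specializes f hw1 hw2
    · obtain ⟨w, hw1, hw2, hw3⟩ := exists_maximal_fiber f x
      obtain ⟨n, hn, hn'⟩ := VarietyA.LocDim.le_fibreDimAt f x w hw1 hw2
      rw [h2 w (hw1.mem_open U.2 hxU) hw3] at hn
      have : e = n := by exact_mod_cast hn
      rw [this]
      exact hn'
  · have := ringKrullDim_fibre_le f x'
    rw [hc, hd] at this
    exact_mod_cast this
  · intro hne
    have := ringKrullDim_fibre_add_one_le f x' c hc ?_
    · rw [hd] at this
      exact_mod_cast this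
    · intro z hzx hz
      by_contra hcon
      have hmax : ∀ z' : X, z' ⤳ z → z' = z := by
        intro z' hz'
        by_contra hne'
        exact hcon ⟨z', hz', hne'⟩
      apply hne
      rw [← hz]
      exact hmaxY z (hzx.mem_open U.2 hx'U) hmax

end K126.EquidimSub
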