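import Groth.Agent.S4645
import Groth.Agent.Flat2D.GeomFib
import Groth.Agent.Etbc.H236.ResZ
import Mathlib.AlgebraicGeometry.Morphisms.QuasiFinite

/-!
# Counting geometric points of quasi-finite morphisms over finite extensions
-/

set_option autoImplicit false
universe u
open CategoryTheory AlgebraicGeometry TopologicalSpace Topology IsLocalRing Limits

namespace K126.GeomPts

theorem card_cc_eq {W Z : Type u} [TopologicalSpace W] [TopologicalSpace Z] (p : W → Z) (hp : Continuous p)
    (h : ∀ z : Z, _root_.IsConnected (p ⁻¹' connectedComponent z)) :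
    ENat.card (_root_.ConnectedComponents W) = ENat.card (_root_.ConnectedComponents Z) := by
  refine ENat.card_congr (Equiv.ofBijective hp.connectedComponentsMap ⟨?_, ?_⟩)
  · intro a b hab
    obtain ⟨a, rfl⟩ := ConnectedComponents.surjective_coe a
    obtain ⟨b, rfl⟩ := ConnectedComponents.surjective_coe b
    have h1 : (ConnectedComponents.mk (p a)) = ConnectedComponents.mk (p b) := hab
    rw [ConnectedComponents.coe_eq_coe] at h1 ⊢
    have h2 : p ⁻¹' connectedComponent (p a) ⊆ connectedComponent a :=
      (h (p a)).isPreconnected.subset_connectedComponent mem_connectedComponent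
    have h3 : b ∈ connectedComponent a := h2 (by rw [Set.mem_preimage, h1]; exact mem_connectedComponent)
    exact connectedComponent_eq h3
  · intro c
    obtain ⟨z, rfl⟩ := ConnectedComponents.surjective_coe c
    obtain ⟨w, hw⟩ := (h z).nonempty
    refine ⟨ConnectedComponents.mk w, ?_⟩
    change ConnectedComponents.mk (p w) = ConnectedComponents.mk z
    rw [ConnectedComponents.coe_eq_coe]
    exact (connectedComponent_eq hw).symm

theorem card_cc_of_discrete {W : Type u} [TopologicalSpace W] [DiscreteTopology W] :
    ENat.card (_root_.ConnectedComponents W) = ENat.card W := by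
  refine (ENat.card_congr (Equiv.ofBijective (ConnectedComponents.mk : W → _) ⟨?_, ?_⟩)).symm
  · intro a b h
    rw [ConnectedComponents.coe_eq_coe] at h
    have h1 : a ∈ connectedComponent b := by rw [← h]; exact mem_connectedComponent
    have h2 : connectedComponent b = {b} := connectedComponent_eq_singleton b
    rw [h2] at h1
    exact h1
  · exact ConnectedComponents.surjective_coe

variable {k : Type u} [Field k] {Z : Scheme.{u}}

theorem discreteTopology (h : Z ⟶ Spec (CommRingCat.of k)) [LocallyQuasiFinite h] : DiscreteTopology Z := by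
  have : IsLocallyArtinian Z := .of_locallyQuasiFinite h
  infer_instance

theorem residueFieldProp (h : Z ⟶ Spec (CommRingCat.of k)) [LocallyQuasiFinite h] (x : Z) :
    FBase.ResidueFieldProp h x (fun K _ _ => FiniteDimensional k (separableClosure k K)) := by
  refine ⟨(Spec.preimage (Z.fromSpecResidueField x ≫ h)).hom, Spec.map_preimage _, ?_⟩
  have hZ := discreteTopology h
  have h1 : IsClosedImmersion (Z.fromSpecResidueField x) :=
    isClosed_singleton_iff_isClosedImmersion.mp (isClosed_discrete _)
  have h2 : IsFinite (Z.fromSpecResidueField x ≫ h) := IsFinite.of_locallyQuasiFinite _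
  rw [← Spec.map_preimage (Z.fromSpecResidueField x ≫ h), IsFinite.SpecMap_iff] at h2
  let _ : Algebra k (Z.residueField x) := (Spec.preimage (Z.fromSpecResidueField x ≫ h)).hom.toAlgebra
  have h3 : Module.Finite k (Z.residueField x) := h2
  exact inferInstanceAs (FiniteDimensional k (separableClosure k (Z.residueField x)))

theorem exists_splitting (h : Z ⟶ Spec (CommRingCat.of k)) [LocallyQuasiFinite h] [QuasiCompact h] :
    ∃ (L : Type u) (_ : Field L) (_ : Algebra k L), FiniteDimensional k L ∧
      ∀ (F : Type u) [Field F] [Algebra L F] {W : Scheme.{u}} (a : W ⟶ Z) (b : W ⟶ Spec (CommRingCat.of F)),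
        IsPullback a b h (Spec.map (CommRingCat.ofHom (algebraMap L F)) ≫
          Spec.map (CommRingCat.ofHom (algebraMap k L))) →
        ENat.card W = MoreMor.nGeomConnComp h (closedPoint k) := by
  have hZ := discreteTopology h
  have hZc : CompactSpace Z := QuasiCompact.compactSpace_of_compactSpace h
  have hZf : Finite Z := finite_of_compact_of_discrete
  have hcc : Finite (_root_.ConnectedComponents ↥Z) :=
    Finite.of_surjective _ (ConnectedComponents.surjective_coe (α := Z))
  obtain ⟨L, _, _, hL, -, hcon⟩ := Groth.Agent.S4645.result h fun c => by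
    obtain ⟨x, rfl⟩ := ConnectedComponents.surjective_coe c
    exact ⟨x, rfl, residueFieldProp h x⟩
  refine ⟨L, inferInstance, inferInstance, hL, ?_⟩
  have key : ∀ (F : Type u) [Field F] [Algebra L F] {W : Scheme.{u}} (a : W ⟶ Z)
      (b : W ⟶ Spec (CommRingCat.of F)),
      IsPullback a b h (Spec.map (CommRingCat.ofHom (algebraMap L F)) ≫
        Spec.map (CommRingCat.ofHom (algebraMap k L))) →
      ENat.card (_root_.ConnectedComponents W) = ENat.card (_root_.ConnectedComponents ↥(FBase.bc h L)) := by
    intro F _ _ W a b hpb
    have h1 : IsPullback (FBase.bcπ (FBase.bcStr h L) F) (FBase.bcStr (FBase.bcStr h L) F)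
      (FBase.bcStr h L) (Spec.map (CommRingCat.ofHom (algebraMap L F))) := IsPullback.of_hasPullback _ _
    have h2 : IsPullback (FBase.bcπ h L) (FBase.bcStr h L) h
      (Spec.map (CommRingCat.ofHom (algebraMap k L))) := IsPullback.of_hasPullback _ _
    have h3 := (h1.flip.paste_vert h2.flip).flip
    let e := hpb.isoIsPullback _ _ h3
    have h4 := card_cc_eq (FBase.bcπ (FBase.bcStr h L) F) (FBase.bcπ (FBase.bcStr h L) F).continuous
      (hcon F)
    rw [← h4]
    refine card_cc_eq e.hom e.hom.continuous fun z => ?_
    exact (e.hom.homeomorph.isConnected_preimage (s := connectedComponent z)).mpr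
      isConnected_connectedComponent
  intro F _ _ W a b hpb
  have hb : LocallyQuasiFinite b := MorphismProperty.of_isPullback hpb inferInstance
  have hW := discreteTopology b
  rw [← card_cc_of_discrete, key F a b hpb]
  let F' := SeparableClosure L
  have h3 := IsPullback.of_hasPullback h (Spec.map (CommRingCat.ofHom (algebraMap L F')) ≫
    Spec.map (CommRingCat.ofHom (algebraMap k L)))
  rw [← key F' _ _ h3, Groth.Agent.Flat2D.GeomFib.nGeomConnComp_eq h _ _ _ h3]
  congr 1
  exact Subsingleton.elim _ _

end K126.GeomPts
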