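import Groth.Agent.EGA43.K126.GeomPts
import Groth.Agent.Sga4h.ChartDVR
import Groth.Agent.Hensel.Exist
import Groth.Agent.Ega43.DvrScheme
import Groth.Agent.Sga5.H853.Points
import Mathlib.AlgebraicGeometry.FunctionField

/-!
# Discrete valuation rings realizing geometric numbers of points
-/

set_option autoImplicit false
set_option maxHeartbeats 400000
universe u
open CategoryTheory AlgebraicGeometry TopologicalSpace Topology IsLocalRing Limits

namespace K126.GeomPts

open Groth.Agent Groth.Agent.Sga5.H853

theorem isSepClosed_closedPoint (R : Type u) [CommRing R] [IsLocalRing R] [IsSepClosed (ResidueField R)] :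
    IsSepClosed ((Spec (CommRingCat.of R)).residueField (IsLocalRing.closedPoint R)) := by
  have h2 := Ideal.bijective_algebraMap_quotient_residueField (IsLocalRing.maximalIdeal R)
  let e2 : (R ⧸ IsLocalRing.maximalIdeal R) ≃+* (IsLocalRing.maximalIdeal R).ResidueField :=
    RingEquiv.ofBijective _ h2
  have h3 : IsSepClosed (IsLocalRing.maximalIdeal R).ResidueField :=
    Points.isSepClosed_of_ringEquiv (k := IsLocalRing.ResidueField R) e2
  let e3 := (Scheme.Spec.residueFieldIso (CommRingCat.of R)
    (IsLocalRing.closedPoint R)).symm.commRingCatIsoToRingEquiv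
  exact Points.isSepClosed_of_ringEquiv (k := (IsLocalRing.maximalIdeal R).ResidueField) e3

theorem exists_strict (R : Type u) [CommRing R] [IsDomain R] [IsDiscreteValuationRing R] :
    ∃ (V : Type u) (_ : CommRing V) (_ : IsDomain V) (_ : IsDiscreteValuationRing V) (φ : R →+* V),
      IsLocalHom φ ∧ Function.Injective φ ∧ IsSepClosed (ResidueField V) := by
  obtain ⟨V, _, _, _, _, hV, -⟩ := Groth.Agent.Hensel.Exist.exists_isStrictHenselization R
  have h1 : IsDomain V := Sga4h.ChartDVR.isDomain_of_isStrictHenselization R V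
  have h2 : IsDiscreteValuationRing V := Sga4h.ChartDVR.isDiscreteValuationRing_of_isStrictHenselization R V
  obtain ⟨h3, h4⟩ := Sga4h.ChartDVR.isStrictlyHenselianLocalRing_of_isStrictHenselization R V
  exact ⟨V, inferInstance, h1, h2, algebraMap R V, inferInstance,
    Sga4h.ChartDVR.injective_algebraMap R V, h4⟩

/-- Over a separably closed residue field the points of the fibre are the geometric ones. -/
theorem card_fiber_of_sepClosed {X Y S : Scheme.{u}} (f : X ⟶ Y) [LocallyQuasiFinite f] (g : S ⟶ Y) (s : S)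
    (hs : IsSepClosed (S.residueField s)) :
    MoreMor.nGeomConnComp f (g s) = ENat.card ↥((pullback.snd f g).fiber s) := by
  have h1 : IsPullback ((pullback.snd f g).fiberι s) ((pullback.snd f g).fiberToSpecResidueField s)
    (pullback.snd f g) (S.fromSpecResidueField s) := IsPullback.of_hasPullback _ _
  have h2 : IsPullback (pullback.fst f g) (pullback.snd f g) f g := IsPullback.of_hasPullback _ _
  have h3 := (h1.flip.paste_vert h2.flip).flip
  have h4 := Flat2D.GeomFib.nGeomConnComp_eq (K := S.residueField s) f _ _ _ h3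
  have h5 : (S.fromSpecResidueField s ≫ g) (closedPoint (S.residueField s)) = g s := by
    rw [Scheme.Hom.comp_apply]
    exact congrArg g (Scheme.fromSpecResidueField_apply _ _)
  rw [h5] at h4
  rw [← h4]
  have h6 : LocallyQuasiFinite ((pullback.snd f g).fiberToSpecResidueField s) :=
    inferInstanceAs (LocallyQuasiFinite (pullback.snd (pullback.snd f g) (S.fromSpecResidueField s)))
  have : DiscreteTopology ((pullback.snd f g).fiber s) :=
    discreteTopology (k := S.residueField s) ((pullback.snd f g).fiberToSpecResidueField s)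
  exact card_cc_of_discrete

theorem exists_splitting' (κ : CommRingCat.{u}) (hκ : IsField κ) {Z : Scheme.{u}} (h : Z ⟶ Spec κ)
    [LocallyQuasiFinite h] [QuasiCompact h] :
    ∃ (L : Type u) (_ : Field L) (φ : κ ⟶ CommRingCat.of L), φ.hom.Finite ∧
      ∀ (F : CommRingCat.{u}) (_ : IsField F) (θ : CommRingCat.of L ⟶ F) {W : Scheme.{u}} (a : W ⟶ Z)
        (b : W ⟶ Spec F), IsPullback a b h (Spec.map θ ≫ Spec.map φ) →
        ∀ p : Spec κ, ENat.card W = MoreMor.nGeomConnComp h p := by
  let _ : Field κ := hκ.toField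
  obtain ⟨L, _, _, hL, H⟩ := exists_splitting (k := κ) h
  refine ⟨L, inferInstance, CommRingCat.ofHom (algebraMap κ L), ?_, ?_⟩
  · change (algebraMap κ L).Finite
    exact RingHom.finite_algebraMap.mpr hL
  · intro F hF θ W a b hpb p
    let _ : Field F := hF.toField
    let _ : Algebra L F := θ.hom.toAlgebra
    have h1 := H F a b hpb
    rw [h1]
    congr 1
    exact Subsingleton.elim (α := PrimeSpectrum κ) _ _

theorem exists_residue_map (V : CommRingCat.{u}) [IsDomain V] (η : Spec V) (hη : η = genericPoint (Spec V)) :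
    ∃ ρ : V ⟶ (Spec V).residueField η,
      Spec.map ρ = (Spec V).fromSpecResidueField η ∧ Function.Injective ρ.hom := by
  refine ⟨Spec.preimage ((Spec V).fromSpecResidueField η), Spec.map_preimage _, ?_⟩
  set ρ := Spec.preimage ((Spec V).fromSpecResidueField η) with hρ
  let pt : Spec ((Spec V).residueField η) := closedPoint ((Spec V).residueField η)
  have h1 : (Spec.map ρ) pt = η := by
    rw [hρ, Spec.map_preimage]; exact Scheme.fromSpecResidueField_apply _ _
  have h2 := h1.trans (hη.trans (genericPoint_eq_bot_of_affine V))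
  have h3 : (PrimeSpectrum.asIdeal pt).comap ρ.hom = (⊥ : Ideal V) := congrArg PrimeSpectrum.asIdeal h2
  rw [RingHom.injective_iff_ker_eq_bot, eq_bot_iff, ← h3]
  intro v hv
  rw [Ideal.mem_comap, (RingHom.mem_ker).mp hv]
  exact Ideal.zero_mem _

theorem fac_of_comp {Y : Scheme.{u}} {A B C κ L : CommRingCat.{u}} (g : Spec A ⟶ Y) (ψ : A ⟶ B) (ρ : B ⟶ C)
    (ι : A ⟶ L) (θ : L ⟶ C) (h : ψ ≫ ρ = ι ≫ θ) (u : Spec κ ⟶ Y) (φ : κ ⟶ L)
    (hg : Spec.map ι ≫ g = Spec.map φ ≫ u) :
    Spec.map ρ ≫ Spec.map ψ ≫ g = (Spec.map θ ≫ Spec.map φ) ≫ u := by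
  rw [← Category.assoc, ← Spec.map_comp, h, Spec.map_comp, Category.assoc, hg, Category.assoc]

theorem card_fiber_of_fac {X Y S : Scheme.{u}} (f : X ⟶ Y) (y' : Y) (g : S ⟶ Y) (s : S)
    (n : ℕ∞) (v : Spec (S.residueField s) ⟶ Spec (Y.residueField y'))
    (hfac : S.fromSpecResidueField s ≫ g = v ≫ Y.fromSpecResidueField y')
    (H : ∀ {W : Scheme.{u}} (a : W ⟶ f.fiber y') (b : W ⟶ Spec (S.residueField s)),
      IsPullback a b (f.fiberToSpecResidueField y') v → ENat.card W = n) :
    ENat.card ↥((pullback.snd f g).fiber s) = n := by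
  have h1 : IsPullback ((pullback.snd f g).fiberι s) ((pullback.snd f g).fiberToSpecResidueField s)
    (pullback.snd f g) (S.fromSpecResidueField s) := IsPullback.of_hasPullback _ _
  have h2 : IsPullback (pullback.fst f g) (pullback.snd f g) f g := IsPullback.of_hasPullback _ _
  have h3 := (h1.flip.paste_vert h2.flip).flip
  have h4 : IsPullback (f.fiberι y') (f.fiberToSpecResidueField y') f (Y.fromSpecResidueField y') :=
    IsPullback.of_hasPullback f (Y.fromSpecResidueField y')
  obtain ⟨a, ha, -⟩ := Flat2D.GeomFib.exists_isPullback_lift h4 h3 v hfac.symm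
  exact H a _ ha

end K126.GeomPts
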