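import Groth.Agent.FibDim.K582.RingDim
import Groth.Agent.Ega4A.EquidimFlat
import Mathlib.RingTheory.Ideal.KrullsHeightTheorem

/-!
# Cutting down a local homomorphism to relative dimension zero
-/

set_option autoImplicit false
universe u

namespace K126.QuasiSecLocal

open IsLocalRing

section

variable (R S : Type*) [CommRing R] [CommRing S] [IsLocalRing R] [IsLocalRing S]
  [IsNoetherianRing S] [Algebra R S] [IsLocalHom (algebraMap R S)]

/-- Elements of the maximal ideal of `S` which together with the maximal ideal of `R` generate an ideal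
primary to the maximal ideal. -/
theorem exists_sop (c : ℕ) (hc : ringKrullDim (S ⧸ (maximalIdeal R).map (algebraMap R S)) = c) :
    ∃ s : Finset S, s.card ≤ c ∧ (s : Set S) ⊆ maximalIdeal S ∧ ∀ Q : Ideal S, Q.IsPrime →
      (s : Set S) ⊆ Q → (maximalIdeal R).map (algebraMap R S) ≤ Q → Q = maximalIdeal S := by
  classical
  set I := (maximalIdeal R).map (algebraMap R S) with hI
  have hIle : I ≤ maximalIdeal S := by
    rw [hI, Ideal.map_le_iff_le_comap, maximalIdeal_comap]
  have hIne : I ≠ ⊤ := fun h => (maximalIdeal.isMaximal S).ne_top (top_le_iff.1 (h ▸ hIle))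
  have : Nontrivial (S ⧸ I) := Ideal.Quotient.nontrivial_iff.2 hIne
  have hloc : IsLocalRing (S ⧸ I) :=
    IsLocalRing.of_surjective' (Ideal.Quotient.mk I) Ideal.Quotient.mk_surjective
  have hlh : IsLocalHom (Ideal.Quotient.mk I) :=
    IsLocalHom.of_surjective (Ideal.Quotient.mk I) Ideal.Quotient.mk_surjective
  obtain ⟨t, ht, hcard⟩ := Ideal.exists_finset_card_eq_height_of_isNoetherianRing (maximalIdeal (S ⧸ I))
  have hcomap : (maximalIdeal (S ⧸ I)).comap (Ideal.Quotient.mk I) = maximalIdeal S :=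
    maximalIdeal_comap _
  choose g hg using Ideal.Quotient.mk_surjective (I := I)
  refine ⟨t.image g, ?_, ?_, ?_⟩
  · have h1 : ((t.card : ℕ∞) : WithBot ℕ∞) = ((c : ℕ∞) : WithBot ℕ∞) := by
      rw [hcard, IsLocalRing.maximalIdeal_height_eq_ringKrullDim]
      exact hc
    have h2 : t.card = c := by exact_mod_cast h1
    rw [← h2]
    exact Finset.card_image_le
  · intro x hx
    rw [Finset.coe_image] at hx
    obtain ⟨y, hy, rfl⟩ := hx
    rw [SetLike.mem_coe, ← hcomap, Ideal.mem_comap, hg]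
    exact ht.1.2 (Ideal.subset_span hy)
  · intro Q hQ hs hIQ
    have hpr : (Q.map (Ideal.Quotient.mk I)).IsPrime := Ideal.isPrime_map_quotientMk_of_isPrime hIQ
    have hle : Ideal.span (t : Set (S ⧸ I)) ≤ Q.map (Ideal.Quotient.mk I) := by
      rw [Ideal.span_le]
      intro y hy
      rw [← hg y]
      exact Ideal.mem_map_of_mem _ (hs (by rw [Finset.coe_image]; exact ⟨y, hy, rfl⟩))
    have h1 := ht.2 ⟨hpr, hle⟩ (IsLocalRing.le_maximalIdeal hpr.ne_top)
    have h2 : Q.map (Ideal.Quotient.mk I) = maximalIdeal (S ⧸ I) :=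
      le_antisymm (IsLocalRing.le_maximalIdeal hpr.ne_top) h1
    rw [← hcomap, ← h2, Ideal.comap_map_of_surjective' _ Ideal.Quotient.mk_surjective,
      Ideal.mk_ker, sup_eq_left.mpr hIQ]

/-- A prime of height at most the dimension of the fibre, isolated in the fibre. -/
theorem exists_prime_minimal (c : ℕ)
    (hc : ringKrullDim (S ⧸ (maximalIdeal R).map (algebraMap R S)) = c) :
    ∃ P : Ideal S, P.IsPrime ∧ P.height ≤ c ∧ ∀ Q : Ideal S, Q.IsPrime →
      P ≤ Q → (maximalIdeal R).map (algebraMap R S) ≤ Q → Q = maximalIdeal S := by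
  obtain ⟨s, hcard, hs, h⟩ := exists_sop R S c hc
  obtain ⟨P, hP, hPle⟩ := Ideal.exists_minimalPrimes_le (Ideal.span_le.2 hs)
  refine ⟨P, hP.isPrime, ?_, fun Q hQ hPQ hIQ => h Q hQ ?_ hIQ⟩
  · exact (Ideal.height_le_card_of_mem_minimalPrimes_span_finset hP).trans (by exact_mod_cast hcard)
  · exact Ideal.subset_span.trans (SetLike.coe_subset_coe.2 (hP.le.trans hPQ))

end

/-- The Krull dimension of a Noetherian local ring is a natural number. -/
theorem exists_nat_ringKrullDim (R : Type*) [CommRing R] [IsLocalRing R] [IsNoetherianRing R] :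
    ∃ n : ℕ, ringKrullDim R = n := by
  obtain ⟨r, hr⟩ := ENat.ne_top_iff_exists.mp
    (Ideal.height_ne_top (I := maximalIdeal R) Ideal.IsPrime.ne_top')
  refine ⟨r, ?_⟩
  rw [← IsLocalRing.maximalIdeal_height_eq_ringKrullDim, ← hr]
  rfl

theorem ringKrullDim_quotient_add_one_le {R : Type*} [CommRing R] {p q : Ideal R} [p.IsPrime] (h : p < q) :
    ringKrullDim (R ⧸ q) + 1 ≤ ringKrullDim (R ⧸ p) := by
  obtain ⟨r, hr, hrp⟩ := SetLike.exists_of_lt h
  refine ringKrullDim_succ_le_of_surjective (Ideal.Quotient.factor h.le)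
    (Ideal.Quotient.factor_surjective h.le) (r := Ideal.Quotient.mk p r) ?_ ?_
  · exact mem_nonZeroDivisors_of_ne_zero (by rwa [Ne, Ideal.Quotient.eq_zero_iff_mem])
  · rw [Ideal.Quotient.factor_mk, Ideal.Quotient.eq_zero_iff_mem]
    exact hr

/-- If `dim S ≥ dim R + dim S/𝔪_R S`, there is a prime of `S` over a minimal prime of `R` isolated in
the fibre. -/
theorem exists_prime_over_minimal (R S : Type*) [CommRing R] [CommRing S] [IsLocalRing R] [IsLocalRing S]
    [IsNoetherianRing R] [IsNoetherianRing S] [Algebra R S] [IsLocalHom (algebraMap R S)] (c : ℕ)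
    (hc : ringKrullDim (S ⧸ (maximalIdeal R).map (algebraMap R S)) = c)
    (hdim : ringKrullDim R + c ≤ ringKrullDim S) :
    ∃ P : Ideal S, P.IsPrime ∧ P.comap (algebraMap R S) ∈ minimalPrimes R ∧ ∀ Q : Ideal S, Q.IsPrime →
      P ≤ Q → (maximalIdeal R).map (algebraMap R S) ≤ Q → Q = maximalIdeal S := by
  obtain ⟨s, hcard, hs, h⟩ := exists_sop R S c hc
  -- the dimension of `S / (s)`
  have h1 := ringKrullDim_le_ringKrullDim_quotient_add_card s
    (by rw [IsLocalRing.ringJacobson_eq_maximalIdeal]; exact hs)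
  have hne : Ideal.span (s : Set S) ≠ ⊤ := fun h' =>
    (maximalIdeal.isMaximal S).ne_top (top_le_iff.1 (h' ▸ Ideal.span_le.2 hs))
  have hnt : Nontrivial (S ⧸ Ideal.span (s : Set S)) := Ideal.Quotient.nontrivial_iff.2 hne
  have hloc : IsLocalRing (S ⧸ Ideal.span (s : Set S)) :=
    IsLocalRing.of_surjective' (Ideal.Quotient.mk _) Ideal.Quotient.mk_surjective
  obtain ⟨P, hP, hPdim⟩ := Groth.Agent.Ega4A.EquidimFlat.exists_minimalPrimes_dim_eq
    (I := Ideal.span (s : Set S))
  have hPp : P.IsPrime := hP.isPrime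
  have hPle : P ≤ maximalIdeal S := IsLocalRing.le_maximalIdeal hPp.ne_top
  refine ⟨P, hPp, ?_, fun Q hQ hPQ hIQ => h Q hQ
    (Ideal.subset_span.trans (SetLike.coe_subset_coe.2 (hP.le.trans hPQ))) hIQ⟩
  set q : Ideal R := P.comap (algebraMap R S) with hq
  have hqp : q.IsPrime := Ideal.comap_isPrime _ _
  have hqle : q ≤ maximalIdeal R := IsLocalRing.le_maximalIdeal hqp.ne_top
  have : Nontrivial (R ⧸ q) := Ideal.Quotient.nontrivial_iff.2 hqp.ne_top
  have : Nontrivial (S ⧸ P) := Ideal.Quotient.nontrivial_iff.2 hPp.ne_top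
  have hl1 : IsLocalRing (R ⧸ q) :=
    IsLocalRing.of_surjective' (Ideal.Quotient.mk _) Ideal.Quotient.mk_surjective
  have hl2 : IsLocalRing (S ⧸ P) :=
    IsLocalRing.of_surjective' (Ideal.Quotient.mk _) Ideal.Quotient.mk_surjective
  have hm1 : IsLocalHom (Ideal.Quotient.mk q) :=
    IsLocalHom.of_surjective (Ideal.Quotient.mk q) Ideal.Quotient.mk_surjective
  have hm2 : IsLocalHom (Ideal.Quotient.mk P) :=
    IsLocalHom.of_surjective (Ideal.Quotient.mk P) Ideal.Quotient.mk_surjective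
  let φ : R ⧸ q →+* S ⧸ P := Ideal.quotientMap P (algebraMap R S) le_rfl
  let alg : Algebra (R ⧸ q) (S ⧸ P) := φ.toAlgebra
  have hφ : φ.comp (Ideal.Quotient.mk q) = (Ideal.Quotient.mk P).comp (algebraMap R S) := by
    ext r; rfl
  have hlh : IsLocalHom (algebraMap (R ⧸ q) (S ⧸ P)) := by
    have h2 : IsLocalHom (φ.comp (Ideal.Quotient.mk q)) := by
      rw [hφ]; infer_instance
    refine ⟨fun a ha => ?_⟩
    obtain ⟨a, rfl⟩ := Ideal.Quotient.mk_surjective a
    have h3 : IsUnit ((φ.comp (Ideal.Quotient.mk q)) a) := ha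
    exact (h2.map_nonunit a h3).map _
  have hI : (maximalIdeal (R ⧸ q)).map (algebraMap (R ⧸ q) (S ⧸ P)) =
      ((maximalIdeal R).map (algebraMap R S)).map (Ideal.Quotient.mk P) := by
    have h2 : maximalIdeal (R ⧸ q) = (maximalIdeal R).map (Ideal.Quotient.mk q) := by
      rw [← maximalIdeal_comap (Ideal.Quotient.mk q),
        Ideal.map_comap_of_surjective _ Ideal.Quotient.mk_surjective]
    rw [h2, Ideal.map_map, Ideal.map_map, ← hφ]
    rfl
  have hdim0 : ringKrullDim ((S ⧸ P) ⧸ (maximalIdeal (R ⧸ q)).map (algebraMap (R ⧸ q) (S ⧸ P))) ≤ 0 := by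
    rw [hI]
    have : Ring.KrullDimLE 0 ((S ⧸ P) ⧸ ((maximalIdeal R).map (algebraMap R S)).map
        (Ideal.Quotient.mk P)) := by
      rw [Ring.krullDimLE_zero_iff]
      intro T hT
      let ψ : S →+* ((S ⧸ P) ⧸ ((maximalIdeal R).map (algebraMap R S)).map (Ideal.Quotient.mk P)) :=
        (Ideal.Quotient.mk _).comp (Ideal.Quotient.mk P)
      have hψ : Function.Surjective ψ :=
        Ideal.Quotient.mk_surjective.comp Ideal.Quotient.mk_surjective
      have h4 : T.comap ψ = maximalIdeal S := by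
        refine h _ (Ideal.comap_isPrime _ _) (Ideal.subset_span.trans
          (SetLike.coe_subset_coe.2 (hP.le.trans ?_))) ?_
        · intro x hx
          rw [Ideal.mem_comap]
          change Ideal.Quotient.mk _ (Ideal.Quotient.mk P x) ∈ T
          rw [Ideal.Quotient.eq_zero_iff_mem.2 hx, map_zero]
          exact zero_mem _
        · intro x hx
          rw [Ideal.mem_comap]
          change Ideal.Quotient.mk _ (Ideal.Quotient.mk P x) ∈ T
          rw [Ideal.Quotient.eq_zero_iff_mem.2 (Ideal.mem_map_of_mem _ hx)]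
          exact zero_mem _
      have h5 : T = (maximalIdeal S).map ψ := by
        rw [← h4, Ideal.map_comap_of_surjective _ hψ]
      refine ((Ideal.map_eq_top_or_isMaximal_of_surjective ψ hψ (maximalIdeal.isMaximal S)).resolve_left
        (by rw [← h5]; exact hT.ne_top)) |> fun h6 => h5 ▸ h6
    exact (Ring.krullDimLE_iff).1 this
  have h2 := (K582.RingDim.ringKrullDim_add (R ⧸ q) (S ⧸ P)).1
  have h3 : ringKrullDim (S ⧸ P) ≤ ringKrullDim (R ⧸ q) := by
    refine h2.trans ?_
    calc _ ≤ ringKrullDim (R ⧸ q) + 0 := by gcongr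
      _ = _ := add_zero _
  by_contra hmin
  obtain ⟨q0, hq0, hq0le⟩ := Ideal.exists_minimalPrimes_le (bot_le (a := q))
  have hlt : q0 < q := lt_of_le_of_ne hq0le fun h' => hmin (h' ▸ hq0)
  have hq0p : q0.IsPrime := hq0.isPrime
  have h4 := ringKrullDim_quotient_add_one_le hlt
  have h5 : ringKrullDim (R ⧸ q0) ≤ ringKrullDim R := ringKrullDim_quotient_le _
  obtain ⟨r, hr⟩ := exists_nat_ringKrullDim R
  obtain ⟨d, hd⟩ := exists_nat_ringKrullDim (R ⧸ q)
  have h6 : ringKrullDim R + c ≤ ringKrullDim (R ⧸ q) + c := by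
    refine hdim.trans (h1.trans ?_)
    rw [← hPdim]
    have : ((s.card : ℕ) : WithBot ℕ∞) ≤ c := by exact_mod_cast hcard
    gcongr
  have h7 := h4.trans h5
  rw [hr, hd] at h6
  rw [hr, hd] at h7
  have h8 : r + c ≤ d + c := by exact_mod_cast h6
  have h9 : d + 1 ≤ r := by exact_mod_cast h7
  omega

end K126.QuasiSecLocal
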