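import Groth.Agent.EGA43.K126.EquidimSub
import Groth.Agent.EGA43.K126.QuasiSecLocal
import Groth.Agent.Flat2C.LqfDense
import Groth.Agent.CycB.RelDim2
import Groth.Agent.Flat2D.FiberStalk
import Groth.Agent.Ega1.ReducedSub

/-!
# Quasi-sections through a point closed in its fibre
-/

set_option autoImplicit false
universe u
open CategoryTheory AlgebraicGeometry TopologicalSpace Topology IsLocalRing
open Groth.Agent.CycB.RelDim Groth.Agent.Flat2D.RelDimClosure

namespace K126.QuasiSec

open Groth.Agent Groth.Agent.Ega4fib.H174.Equidim Groth.Agent.Ega4fib.H174.EquidimCrit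

variable {X Y : Scheme.{u}}

theorem spec_specializes_iff {A : CommRingCat.{u}} (P Q : Spec A) :
    P ⤳ Q ↔ PrimeSpectrum.asIdeal P ≤ PrimeSpectrum.asIdeal Q :=
  (PrimeSpectrum.le_iff_specializes (P : PrimeSpectrum A) Q).symm

theorem fromSpecStalk_specializes_iff (x : X) (P Q : Spec (X.presheaf.stalk x)) :
    X.fromSpecStalk x P ⤳ X.fromSpecStalk x Q ↔ PrimeSpectrum.asIdeal P ≤ PrimeSpectrum.asIdeal Q := by
  rw [(X.fromSpecStalk x).isEmbedding.isInducing.specializes_iff, spec_specializes_iff]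

theorem fromSpecStalk_specializes (x : X) (P : Spec (X.presheaf.stalk x)) :
    X.fromSpecStalk x P ⤳ x := by
  have h2 := Scheme.range_fromSpecStalk (X := X) (x := x)
  have h3 : X.fromSpecStalk x P ∈ Set.range (X.fromSpecStalk x) := ⟨P, rfl⟩
  rw [h2] at h3
  exact h3

theorem exists_fromSpecStalk_eq {x w : X} (h : w ⤳ x) :
    ∃ P : Spec (X.presheaf.stalk x), X.fromSpecStalk x P = w := by
  have h2 := Scheme.range_fromSpecStalk (X := X) (x := x)
  have h3 : w ∈ {y | y ⤳ x} := h
  rw [← h2] at h3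
  exact h3

theorem ringKrullDim_stalk_fromSpecStalk (x : X) (q : Spec (X.presheaf.stalk x)) :
    ringKrullDim (X.presheaf.stalk (X.fromSpecStalk x q)) = (PrimeSpectrum.asIdeal q).height := by
  have hmono : StrictMono (X.fromSpecStalk x) := by
    intro a b hab
    refine ⟨(show b ⤳ a from hab.le).map (X.fromSpecStalk x).continuous, fun h => hab.not_ge ?_⟩
    exact (X.fromSpecStalk x).isEmbedding.isInducing.specializes_iff.mp
      (show X.fromSpecStalk x a ⤳ X.fromSpecStalk x b from h)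
  have h1 := Order.coheight_eq_of_strictMono _ hmono (fun a b hab => by
    obtain ⟨a', rfl⟩ := exists_fromSpecStalk_eq (x := x) (w := b)
      ((show b ⤳ X.fromSpecStalk x a from hab.le).trans (fromSpecStalk_specializes x a))
    refine ⟨a', ⟨?_, fun h => hab.not_ge ?_⟩, rfl⟩
    · exact (X.fromSpecStalk x).isEmbedding.isInducing.specializes_iff.mp
        (show X.fromSpecStalk x a' ⤳ X.fromSpecStalk x a from hab.le)
    · exact (show a ⤳ a' from h).map (X.fromSpecStalk x).continuous) q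
  rw [ringKrullDim_stalk_eq_coheight, ← h1, idealHeight_eq_coheight]

theorem apply_fromSpecStalk (f : X ⟶ Y) (x : X) (Q : Spec (X.presheaf.stalk x)) :
    f (X.fromSpecStalk x Q) = Y.fromSpecStalk (f x) (Spec.map (f.stalkMap x) Q) := by
  have : (Spec.map (f.stalkMap x) ≫ Y.fromSpecStalk (f x)) Q = (X.fromSpecStalk x ≫ f) Q := by
    rw [Scheme.SpecMap_stalkMap_fromSpecStalk]
  exact this.symm

/-- A generization is in the fibre iff its prime contains the fibre ideal. -/
theorem apply_fromSpecStalk_eq_iff (f : X ⟶ Y) (x : X) (Q : Spec (X.presheaf.stalk x)) :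
    f (X.fromSpecStalk x Q) = f x ↔
      (maximalIdeal (Y.presheaf.stalk (f x))).map (f.stalkMap x).hom ≤ PrimeSpectrum.asIdeal Q := by
  rw [apply_fromSpecStalk, Ideal.map_le_iff_le_comap]
  constructor
  · intro h
    have h1 : Spec.map (f.stalkMap x) Q = closedPoint (Y.presheaf.stalk (f x)) := by
      apply (Y.fromSpecStalk (f x)).isEmbedding.injective
      exact h.trans Scheme.fromSpecStalk_closedPoint.symm
    exact (congrArg PrimeSpectrum.asIdeal h1).ge
  · intro h
    have h1 : Spec.map (f.stalkMap x) Q = closedPoint (Y.presheaf.stalk (f x)) := by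
      apply PrimeSpectrum.ext
      exact ((maximalIdeal.isMaximal _).eq_of_le
        (PrimeSpectrum.isPrime (Spec.map (f.stalkMap x) Q)).ne_top h).symm
    rw [h1]
    exact Scheme.fromSpecStalk_closedPoint

theorem isolated_of_prime (f : X ⟶ Y) (x : X) (P : Spec (X.presheaf.stalk x))
    (h : ∀ Q : Ideal (X.presheaf.stalk x), Q.IsPrime → PrimeSpectrum.asIdeal P ≤ Q →
      (maximalIdeal (Y.presheaf.stalk (f x))).map (f.stalkMap x).hom ≤ Q →
        Q = maximalIdeal (X.presheaf.stalk x)) (w : X) (h1 : X.fromSpecStalk x P ⤳ w) (h2 : w ⤳ x)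
    (h3 : f w = f x) : w = x := by
  obtain ⟨Q, rfl⟩ := exists_fromSpecStalk_eq h2
  rw [fromSpecStalk_specializes_iff] at h1
  rw [apply_fromSpecStalk_eq_iff] at h3
  have h4 : Q = closedPoint (X.presheaf.stalk x) := PrimeSpectrum.ext (h _ (PrimeSpectrum.isPrime Q) h1 h3)
  rw [h4]
  exact Scheme.fromSpecStalk_closedPoint

theorem exists_gen_minimal [IsLocallyNoetherian X] (f : X ⟶ Y) (x : X) (c : ℕ)
    (hc : ringKrullDim ((f.fiber (f x)).presheaf.stalk (f.asFiber x)) = c) :
    ∃ x' : X, x' ⤳ x ∧ ringKrullDim (X.presheaf.stalk x') ≤ c ∧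
      ∀ w : X, x' ⤳ w → w ⤳ x → f w = f x → w = x := by
  let _ : Algebra (Y.presheaf.stalk (f x)) (X.presheaf.stalk x) := (f.stalkMap x).hom.toAlgebra
  have : IsLocalHom (algebraMap (Y.presheaf.stalk (f x)) (X.presheaf.stalk x)) :=
    inferInstanceAs (IsLocalHom (f.stalkMap x).hom)
  obtain ⟨e⟩ := Groth.Agent.Flat2D.FiberStalk.nonempty_asFiber_stalkEquiv' f x
  have he := ringKrullDim_eq_of_ringEquiv e
  obtain ⟨P, hP, hht, h⟩ := QuasiSecLocal.exists_prime_minimal (Y.presheaf.stalk (f x))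
    (X.presheaf.stalk x) c (he.trans hc)
  let P' : Spec (X.presheaf.stalk x) := ⟨P, hP⟩
  refine ⟨X.fromSpecStalk x P', fromSpecStalk_specializes _ _, ?_, isolated_of_prime f x P' h⟩
  rw [ringKrullDim_stalk_fromSpecStalk]
  exact_mod_cast hht

theorem exists_gen_generic [IrreducibleSpace Y] [IsLocallyNoetherian X] [IsLocallyNoetherian Y]
    (f : X ⟶ Y) (x : X) (c : ℕ)
    (hc : ringKrullDim ((f.fiber (f x)).presheaf.stalk (f.asFiber x)) = c)
    (hdim : ringKrullDim (Y.presheaf.stalk (f x)) + c ≤ ringKrullDim (X.presheaf.stalk x)) :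
    ∃ x' : X, x' ⤳ x ∧ f x' = genericPoint Y ∧
      ∀ w : X, x' ⤳ w → w ⤳ x → f w = f x → w = x := by
  let _ : Algebra (Y.presheaf.stalk (f x)) (X.presheaf.stalk x) := (f.stalkMap x).hom.toAlgebra
  have : IsLocalHom (algebraMap (Y.presheaf.stalk (f x)) (X.presheaf.stalk x)) :=
    inferInstanceAs (IsLocalHom (f.stalkMap x).hom)
  obtain ⟨e⟩ := Groth.Agent.Flat2D.FiberStalk.nonempty_asFiber_stalkEquiv' f x
  have he := ringKrullDim_eq_of_ringEquiv e
  obtain ⟨P, hP, hmin, h⟩ := QuasiSecLocal.exists_prime_over_minimal (Y.presheaf.stalk (f x))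
    (X.presheaf.stalk x) c (he.trans hc) hdim
  let P' : Spec (X.presheaf.stalk x) := ⟨P, hP⟩
  refine ⟨X.fromSpecStalk x P', fromSpecStalk_specializes _ _, ?_, isolated_of_prime f x P' h⟩
  obtain ⟨η, hη⟩ := exists_fromSpecStalk_eq (genericPoint_specializes (f x))
  rw [apply_fromSpecStalk, ← hη]
  congr 1
  apply PrimeSpectrum.ext
  have h1 : PrimeSpectrum.asIdeal η ≤ PrimeSpectrum.asIdeal (Spec.map (f.stalkMap x) P') := by
    rw [← fromSpecStalk_specializes_iff, hη]
    exact genericPoint_specializes _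
  exact le_antisymm (hmin.2 ⟨PrimeSpectrum.isPrime η, bot_le⟩ h1) h1

/-- A point closed in its fibre has algebraic residue field extension. -/
theorem rtd_eq_zero_of_closed_in_fibre (f : X ⟶ Y) [LocallyOfFiniteType f] (x : X)
    (hcl : ∀ x' : X, f x' = f x → x ⤳ x' → x' = x) : rtd f x = 0 := by
  obtain ⟨n, hn, hn'⟩ := CycB.RelDim.exists_dim_closure_fiber f (f x) (f.asFiber x)
  rw [Scheme.Hom.fiberι_asFiber] at hn
  have h1 : IsClosed ({f.asFiber x} : Set (f.fiber (f x))) := by
    rw [← closure_subset_iff_isClosed]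
    intro z hz
    have h2 : x ⤳ f.fiberι (f x) z := by
      have := (fiberι_specializes_iff f (f x) (f.asFiber x) z).2 (specializes_iff_mem_closure.mpr hz)
      rwa [Scheme.Hom.fiberι_asFiber] at this
    have h3 := hcl _ (fiberι_mem_preimage f _ z) h2
    apply (f.fiberι (f x)).isEmbedding.injective
    rw [h3, Scheme.Hom.fiberι_asFiber]
  rw [h1.closure_eq] at hn'
  have h2 : topologicalKrullDim ({f.asFiber x} : Set (f.fiber (f x))) ≤ 0 :=
    topologicalKrullDim_zero_of_discreteTopology _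
  rw [hn'] at h2
  have h3 : n = 0 := by
    have : (n : WithBot ℕ∞) ≤ (0 : ℕ) := by exact_mod_cast h2
    exact Nat.le_zero.mp (by exact_mod_cast this)
  rw [hn, h3, Nat.cast_zero]

theorem irreducibleSpace_of_specializes {T : Type*} [TopologicalSpace T] (ξ : T) (h : ∀ t, ξ ⤳ t) :
    IrreducibleSpace T := by
  have h1 : IsIrreducible (closure {ξ} : Set T) := isIrreducible_singleton.closure
  have h2 : closure {ξ} = (Set.univ : Set T) :=
    Set.eq_univ_of_forall fun t => specializes_iff_mem_closure.mp (h t)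
  rw [h2] at h1
  exact (irreducibleSpace_def T).2 h1

/-- The quasi-section attached to a generization `x'` of `x` over the generic point of the base, isolated
in its fibre at `x`. -/
theorem exists_quasiSection_of_gen [IrreducibleSpace Y] [IsLocallyNoetherian X] (f : X ⟶ Y)
    [LocallyOfFiniteType f] {x x' : X} (h : x' ⤳ x) (hgen : f x' = genericPoint Y)
    (hiso : ∀ w : X, x' ⤳ w → w ⤳ x → f w = f x → rtd f w ≤ 0) :
    ∃ (T : Scheme.{u}) (i : T ⟶ X), IsImmersion i ∧ IrreducibleSpace ↥T ∧ IsReduced T ∧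
      x ∈ Set.range i.base ∧ Set.range i.base ⊆ closure {x'} ∧
      LocallyOfFiniteType (i ≫ f) ∧ LocallyQuasiFinite (i ≫ f) ∧ QuasiCompact (i ≫ f) ∧
      IsDominant (i ≫ f) := by
  obtain ⟨O, hxO, hO⟩ := exists_opens_localDim_le f h 0 (by simpa using hiso)
  let Z : Closeds X := ⟨closure {x'}, isClosed_closure⟩
  let W := (Scheme.IdealSheafData.vanishingIdeal Z).subscheme
  let j : W ⟶ X := (Scheme.IdealSheafData.vanishingIdeal Z).subschemeι
  have hr : Set.range j = closure {x'} := by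
    rw [Scheme.IdealSheafData.range_subschemeι]
    exact Scheme.IdealSheafData.coe_support_vanishingIdeal _
  have hred : IsReduced W := Groth.Agent.Ega1.ReducedSub.isReduced_subscheme_vanishingIdeal Z
  have hWN : IsLocallyNoetherian W := LocallyOfFiniteType.isLocallyNoetherian j
  obtain ⟨w₀, hw₀⟩ : x ∈ Set.range j := by
    rw [hr]; exact specializes_iff_mem_closure.mp h
  obtain ⟨ξ, hξ⟩ : x' ∈ Set.range j := by rw [hr]; exact subset_closure rfl
  have hξall : ∀ w : W, ξ ⤳ w := by
    intro w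
    refine j.isClosedEmbedding.isInducing.specializes_iff.mp ?_
    have h9 : j w ∈ Set.range j := ⟨w, rfl⟩
    rw [hr] at h9
    rw [hξ]
    exact specializes_iff_mem_closure.mpr h9
  obtain ⟨U, hU, hwU, hUO⟩ := exists_isAffineOpen_mem_and_subset (x := w₀) (U := j ⁻¹ᵁ O)
    (by change j w₀ ∈ O; rw [hw₀]; exact hxO)
  have hUaff : IsAffine (U : Scheme.{u}) := hU
  have hUN : IsNoetherianRing Γ(W, U) := IsLocallyNoetherian.component_noetherian ⟨U, hU⟩
  have hNS : NoetherianSpace ↥(U : Scheme.{u}) := noetherianSpace_of_isAffineOpen U hU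
  let i : (U : Scheme.{u}) ⟶ X := U.ι ≫ j
  have hi : IsImmersion i := inferInstance
  have hlft : LocallyOfFiniteType (i ≫ f) := inferInstance
  have hrange : Set.range i ⊆ closure {x'} := by
    rintro _ ⟨t, rfl⟩
    rw [← hr]
    exact ⟨U.ι t, rfl⟩
  have hne : Nonempty (U : Scheme.{u}) := ⟨⟨w₀, hwU⟩⟩
  have hξU : ξ ∈ U := (hξall w₀).mem_open U.2 hwU
  have hUirr : IrreducibleSpace (U : Scheme.{u}) :=
    irreducibleSpace_of_specializes ⟨ξ, hξU⟩ fun t =>
      (subtype_specializes_iff _ _).mpr (hξall t.1)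
  refine ⟨U, i, hi, hUirr, inferInstance, ⟨⟨w₀, hwU⟩, hw₀⟩, hrange, hlft, ?_, inferInstance, ?_⟩
  · apply Groth.Agent.Flat2C.LqfDense.locallyQuasiFinite_of_fibreDimAt
    intro t
    refine VarietyA.LocDim.fibreDimAt_le (i ≫ f) t 0 fun z _ _ => ?_
    rw [rtd_comp, rtd_eq_zero_of_isPreimmersion i, add_zero]
    exact hO _ (hUO z.2) (specializes_iff_mem_closure.mpr (hrange ⟨z, rfl⟩))
  · refine ⟨?_⟩
    have h1 : (i ≫ f) ⟨ξ, hξU⟩ = genericPoint Y := by
      rw [← hgen, ← hξ]; rfl
    intro y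
    have h2 : closure {genericPoint Y} ⊆ closure (Set.range (i ≫ f)) := by
      apply closure_mono
      rw [Set.singleton_subset_iff]
      exact ⟨_, h1⟩
    exact h2 (specializes_iff_mem_closure.mp (genericPoint_specializes y))

end K126.QuasiSec
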